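import Mathlib

/-!
# Vanishing of finite length cohomology below the length of a regular sequence
-/

set_option linter.style.haveILetI false
universe u

open CategoryTheory CategoryTheory.Limits RingTheory.Sequence TensorProduct

namespace Groth.Agent.AcyclicLemma

variable {R : Type u} [CommRing R]

theorem isWeaklyRegular_of_flat (M : Type u) [AddCommGroup M] [Module R M] [Module.Flat R M]
    {rs : List R} (h : IsWeaklyRegular R rs) : IsWeaklyRegular M rs := by
  rw [isWeaklyRegular_iff] at h ⊢
  intro i hi
  let I := Ideal.ofList (rs.take i)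
  let e : (M ⊗[R] (R ⧸ I)) ≃ₗ[R] (M ⧸ (I • ⊤ : Submodule R M)) := TensorProduct.tensorQuotEquivQuotSMul M I
  have h' : IsSMulRegular (R ⧸ I) rs[i] := by
    have := h i hi
    rwa [show (I • ⊤ : Submodule R R) = I by rw [smul_eq_mul, Ideal.mul_top]] at this
  have hl : Function.Injective ((rs[i] • LinearMap.id : (R ⧸ I) →ₗ[R] (R ⧸ I)).lTensor M) :=
    Module.Flat.lTensor_preserves_injective_linearMap _ h'
  rw [LinearMap.lTensor_smul, LinearMap.lTensor_id] at hl
  intro a b hab
  refine e.symm.injective (hl ?_)
  simpa [← map_smul] using congrArg e.symm hab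

variable (x : R)

/-- The complex `M/xM`. -/
noncomputable def quotCx (M : CochainComplex (ModuleCat.{u} R) ℕ) : CochainComplex (ModuleCat.{u} R) ℕ where
  X i := ModuleCat.of R (QuotSMulTop x (M.X i))
  d i j := ModuleCat.ofHom (QuotSMulTop.map x (M.d i j).hom)
  shape i j h := by simp [M.shape i j h]
  d_comp_d' i j k _ _ := by
    ext1
    rw [ModuleCat.hom_comp, ModuleCat.hom_ofHom, ModuleCat.hom_ofHom, ← QuotSMulTop.map_comp,
      ← ModuleCat.hom_comp, M.d_comp_d, ModuleCat.hom_zero, map_zero]
    rfl

/-- The projection. -/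
noncomputable def quotMap (M : CochainComplex (ModuleCat.{u} R) ℕ) : M ⟶ quotCx x M where
  f i := ModuleCat.ofHom (Submodule.mkQ _)
  comm' i j _ := by
    ext1
    exact QuotSMulTop.map_comp_mkQ x (M.d i j).hom

theorem smul_quotMap (M : CochainComplex (ModuleCat.{u} R) ℕ) : (x • 𝟙 M) ≫ quotMap x M = 0 := by
  ext i : 2
  refine LinearMap.ext fun z => ?_
  exact (Submodule.Quotient.mk_eq_zero _).mpr (Submodule.smul_mem_pointwise_smul z x ⊤ trivial)

theorem shortExact_quot (M : CochainComplex (ModuleCat.{u} R) ℕ) (hM : ∀ i, IsSMulRegular (M.X i) x) :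
    (ShortComplex.mk (x • 𝟙 M) (quotMap x M) (smul_quotMap x M)).ShortExact := by
  refine HomologicalComplex.shortExact_of_degreewise_shortExact _ fun i => ?_
  refine { exact := ?_, mono_f := ?_, epi_g := ?_ }
  · rw [ShortComplex.moduleCat_exact_iff]
    intro z hz
    obtain ⟨w, -, hw⟩ := Submodule.mem_smul_pointwise_iff_exists _ _ _ |>.mp ((Submodule.Quotient.mk_eq_zero _).mp hz)
    exact ⟨w, hw⟩
  · exact (ModuleCat.mono_iff_injective _).mpr (hM i)
  · exact (ModuleCat.epi_iff_surjective _).mpr (Submodule.mkQ_surjective _)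

theorem homologyMap_smul_id (M : CochainComplex (ModuleCat.{u} R) ℕ) (i : ℕ) :
    HomologicalComplex.homologyMap (x • 𝟙 M) i = x • 𝟙 (M.homology i) := by
  show ShortComplex.homologyMap ((HomologicalComplex.shortComplexFunctor _ _ i).map (x • 𝟙 M)) = _
  rw [show (HomologicalComplex.shortComplexFunctor _ _ i).map (x • 𝟙 M) = x • 𝟙 (M.sc i) by ext <;> rfl,
    ShortComplex.homologyMap_smul, ShortComplex.homologyMap_id]
  rfl

theorem isFiniteLength_of_exact {A B C : Type u} [AddCommGroup A] [AddCommGroup B] [AddCommGroup C]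
    [Module R A] [Module R B] [Module R C] (f : A →ₗ[R] B) (g : B →ₗ[R] C)
    (h : f.range = g.ker) (hA : IsFiniteLength R A) (hC : IsFiniteLength R C) : IsFiniteLength R B := by
  obtain ⟨_, _⟩ := isFiniteLength_iff_isNoetherian_isArtinian.mp hA
  obtain ⟨_, _⟩ := isFiniteLength_iff_isNoetherian_isArtinian.mp hC
  exact isFiniteLength_iff_isNoetherian_isArtinian.mpr
    ⟨isNoetherian_of_range_eq_ker f g h, isArtinian_of_range_eq_ker f g h⟩

theorem isZero_homology [IsLocalRing R] : ∀ (rs : List R), (∀ r ∈ rs, r ∈ IsLocalRing.maximalIdeal R) →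
    ∀ (M : CochainComplex (ModuleCat.{u} R) ℕ), (∀ i, IsWeaklyRegular (M.X i) rs) →
      (∀ i, IsFiniteLength R (M.homology i)) → ∀ i < rs.length, IsZero (M.homology i) := by
  intro rs
  induction rs with
  | nil => intro _ _ _ _ i hi; simp at hi
  | cons x rs ih =>
    intro hm M hreg hfl i hi
    have hr := fun j => (isWeaklyRegular_cons_iff _ x rs).mp (hreg j)
    have hS := shortExact_quot x M (fun j => (hr j).1)
    have hq : ∀ j, IsFiniteLength R ((quotCx x M).homology j) := fun j =>
      isFiniteLength_of_exact _ _ (hS.homology_exact₃ j (j + 1) rfl).moduleCat_range_eq_ker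
        (hfl j) (hfl (j + 1))
    have hmono : Mono (HomologicalComplex.homologyMap (x • 𝟙 M) i) := by
      cases i with
      | zero =>
        haveI : Mono (x • 𝟙 M) := hS.mono_f
        haveI : IsIso (M.homologyπ 0) := M.isIso_homologyπ 0 0 (by simp) (M.shape _ _ (by simp))
        haveI : Mono (HomologicalComplex.cyclesMap (x • 𝟙 M) 0) := inferInstance
        have h := HomologicalComplex.homologyπ_naturality (x • 𝟙 M) 0
        rw [← IsIso.inv_hom_id_assoc (M.homologyπ 0) (HomologicalComplex.homologyMap (x • 𝟙 M) 0), h]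
        infer_instance
      | succ i =>
        refine (hS.homology_exact₁ i (i + 1) rfl).mono_g ?_
        exact (ih (fun r hr' => hm r (List.mem_cons_of_mem _ hr')) (quotCx x M) (fun j => (hr j).2) hq i
          (by simpa using hi)).eq_of_src _ _
    rw [homologyMap_smul_id] at hmono
    have hinj : Function.Injective fun z : M.homology i => x • z := (ModuleCat.mono_iff_injective _).mp hmono
    obtain ⟨_, _⟩ := isFiniteLength_iff_isNoetherian_isArtinian.mp (hfl i)
    have hsurj := IsArtinian.surjective_of_injective_endomorphism (x • LinearMap.id : M.homology i →ₗ[R] M.homology i) hinj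
    have htop : (⊤ : Submodule R (M.homology i)) ≤ Ideal.span {x} • ⊤ := fun z _ => by
      obtain ⟨w, rfl⟩ := hsurj z
      exact Submodule.smul_mem_smul (Ideal.mem_span_singleton_self x) trivial
    have hbot := Submodule.eq_bot_of_le_smul_of_le_jacobson_bot _ _ (IsNoetherian.noetherian _) htop
      ((Ideal.span_singleton_le_iff_mem _).mpr (by
        rw [IsLocalRing.jacobson_eq_maximalIdeal _ bot_ne_top]; exact hm x List.mem_cons_self))
    haveI : Subsingleton (M.homology i) :=
      (Submodule.subsingleton_iff R).mp (subsingleton_of_bot_eq_top hbot.symm)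
    exact ModuleCat.isZero_of_subsingleton _

end Groth.Agent.AcyclicLemma
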